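import Groth.Agent.W7TotAcyc.Basic
import Mathlib.Algebra.Category.ModuleCat.Presheaf.Free
import Mathlib.Algebra.Category.ModuleCat.Presheaf.Sheafification
import Mathlib.Algebra.Category.ModuleCat.Sheaf.Limits
import Mathlib.Algebra.Category.ModuleCat.Sheaf.Abelian
import Mathlib.Algebra.Category.ModuleCat.Sheaf.Colimits

/-!
Injective sheaves of modules over a sheaf of rings (not necessarily commutative) are totally
acyclic.
-/

set_option autoImplicit false
set_option backward.isDefEq.respectTransparency false
set_option backward.defeqAttrib.useBackward true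

universe u

open CategoryTheory Category Limits Opposite Abelian AlgebraicTopology Simplicial

namespace Groth.Agent.W7TotAcyc

open Groth.Agent.SiteCoh

variable {C : Type u} [SmallCategory C] {J : GrothendieckTopology C} (R : Sheaf J RingCat.{u})

/-- sheafification of presheaves of modules -/
noncomputable abbrev shM : PresheafOfModules.{u} R.obj ⥤ SheafOfModules.{u} R :=
  PresheafOfModules.sheafification.{u} (R := R) (𝟙 R.obj)

instance : (shM R).Additive :=
  (PresheafOfModules.sheafificationAdjunction.{u} (R := R) (𝟙 R.obj)).left_adjoint_additive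

/-- free sheaf of modules on a presheaf of sets -/
noncomputable abbrev freeM : (Cᵒᵖ ⥤ Type u) ⥤ SheafOfModules.{u} R :=
  PresheafOfModules.free.{u} R.obj ⋙ shM R

variable {K' K : Sheaf J (Type u)} (f : K' ⟶ K)

/-- the free module nerve in presheaves -/
noncomputable abbrev modAugPre : SimplicialObject.Augmented (PresheafOfModules.{u} R.obj) :=
  ((SimplicialObject.Augmented.whiskering _ _).obj (PresheafOfModules.free.{u} R.obj)).obj
    (setAug (Arrow.mk f))

/-- the free module nerve -/
noncomputable abbrev modAug : SimplicialObject.Augmented (SheafOfModules.{u} R) :=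
  ((SimplicialObject.Augmented.whiskering _ _).obj (shM R)).obj (modAugPre R f)

/-- the free module chain complex -/
noncomputable abbrev cQ : ChainComplex (SheafOfModules.{u} R) ℕ :=
  AlternatingFaceMapComplex.obj (SimplicialObject.Augmented.drop.obj (modAug R f))

lemma quasiIso_modAugPre :
    QuasiIso ((AlternatingFaceMapComplex.ε (C := PresheafOfModules.{u} R.obj)).app (modAugPre R f)) := by
  rw [← HomologicalComplex.quasiIso_map_iff_of_preservesHomology _ (PresheafOfModules.toPresheaf R.obj)]
  refine quasiIso_of_evaluation _ fun U => ?_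
  let ev := (evaluation Cᵒᵖ AddCommGrpCat.{u}).obj U
  let E : PresheafOfModules.{u} R.obj ⥤ ModuleCat.{u} (R.obj.obj U) := PresheafOfModules.evaluation R.obj U
  have h : QuasiIso ((E.mapHomologicalComplex _).map
      ((AlternatingFaceMapComplex.ε (C := PresheafOfModules.{u} R.obj)).app (modAugPre R f))) := by
    rw [← quasiIso_eps_iff]
    let ed : SimplicialObject.Augmented.ExtraDegeneracy
        (((SimplicialObject.Augmented.whiskering _ _).obj E).obj (modAugPre R f)) :=
      ((imgAugExtra (Arrow.mk f) (repSheaf J U.unop)).ofIso (setAugPoints (Arrow.mk f) U.unop)).map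
        (ModuleCat.free.{u} (R.obj.obj U))
    exact inferInstanceAs (QuasiIso ed.homotopyEquiv.hom)
  exact (HomologicalComplex.quasiIso_map_iff_of_preservesHomology _
    (forget₂ (ModuleCat.{u} (R.obj.obj U)) AddCommGrpCat.{u})).mpr h

lemma cQ_exact (n : ℕ) : ((cQ R f).sc' (n + 2) (n + 1) n).Exact := by
  have h : QuasiIso ((AlternatingFaceMapComplex.ε (C := SheafOfModules.{u} R)).app (modAug R f)) := by
    rw [quasiIso_eps_iff]
    haveI := quasiIso_modAugPre R f
    infer_instance
  have h' : (cQ R f).ExactAt (n + 1) := by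
    have := (h.quasiIsoAt (n + 1))
    rwa [quasiIsoAt_iff_exactAt' (hL := ChainComplex.exactAt_succ_single_obj _ _)] at this
  exact ((cQ R f).exactAt_iff' (n + 2) (n + 1) n (by simp) (by simp)).1 h'

variable (I : SheafOfModules.{u} R)

/-- maps out of free sheaves of modules -/
noncomputable def modHom (P : Cᵒᵖ ⥤ Type u) :
    ((freeM R).obj P ⟶ I) ≃
      (P ⟶ ((SheafOfModules.toSheaf R).obj I).obj ⋙ forget AddCommGrpCat.{u}) :=
  ((PresheafOfModules.sheafificationAdjunction.{u} (R := R) (𝟙 R.obj)).homEquiv _ _).trans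
    ((PresheafOfModules.freeAdjunction.{u} R.obj).homEquiv _ _)

lemma modHom_natK {P P' : Cᵒᵖ ⥤ Type u} (t : P ⟶ P') (φ : (freeM R).obj P' ⟶ I) :
    modHom R I P ((freeM R).map t ≫ φ) = t ≫ modHom R I P' φ := by
  simp only [modHom, Equiv.trans_apply]
  erw [Adjunction.homEquiv_naturality_left, Adjunction.homEquiv_naturality_left]
  rfl

lemma modHom_add (P : Cᵒᵖ ⥤ Type u) (a b : (freeM R).obj P ⟶ I) (U : Cᵒᵖ) (x : P.obj U) :
    (show ((SheafOfModules.toSheaf R).obj I).obj.obj U from (modHom R I P (a + b)).app U x) =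
      (show ((SheafOfModules.toSheaf R).obj I).obj.obj U from (modHom R I P a).app U x) +
        (show ((SheafOfModules.toSheaf R).obj I).obj.obj U from (modHom R I P b).app U x) := by
  let adj := PresheafOfModules.sheafificationAdjunction.{u} (R := R) (𝟙 R.obj)
  haveI := adj.left_adjoint_additive
  have h := map_add (adj.homAddEquiv ((PresheafOfModules.free.{u} R.obj).obj P) I) a b
  simp only [modHom, Equiv.trans_apply, PresheafOfModules.freeAdjunction_homEquiv]
  exact congrArg (fun ψ : (PresheafOfModules.free.{u} R.obj).obj P ⟶ _ =>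
    ψ.app U (ModuleCat.freeMk x)) h

lemma freeHom_add (P : Cᵒᵖ ⥤ Type u) (G : Sheaf J AddCommGrpCat.{u})
    (a b : (presheafToSheaf J AddCommGrpCat.{u}).obj (P ⋙ AddCommGrpCat.free.{u}) ⟶ G)
    (U : Cᵒᵖ) (x : P.obj U) :
    (show G.obj.obj U from (freeHom J P G (a + b)).app U x) =
      (show G.obj.obj U from (freeHom J P G a).app U x) +
        (show G.obj.obj U from (freeHom J P G b).app U x) := by
  let adj := sheafificationAdjunction J AddCommGrpCat.{u}
  haveI := adj.left_adjoint_additive
  have h := map_add (adj.homAddEquiv (P ⋙ AddCommGrpCat.free.{u}) G) a b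
  simp only [freeHom, Equiv.trans_apply, Adjunction.homEquiv_unit]
  have h' := congrArg (fun ψ : P ⋙ AddCommGrpCat.free.{u} ⟶ G.obj =>
    ψ.app U (FreeAbelianGroup.of x)) h
  exact h'

/-- abelian maps out of the free sheaf are module maps out of the free sheaf of modules -/
noncomputable def swapHom (P : Cᵒᵖ ⥤ Type u) :
    ((presheafToSheaf J AddCommGrpCat.{u}).obj (P ⋙ AddCommGrpCat.free.{u}) ⟶
      (SheafOfModules.toSheaf R).obj I) ≃+ ((freeM R).obj P ⟶ I) :=
  AddEquiv.mk' ((freeHom J P _).trans (modHom R I P).symm) (fun a b => by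
    apply (modHom R I P).injective
    simp only [Equiv.trans_apply, Equiv.apply_symm_apply]
    refine NatTrans.ext (funext fun U => ConcreteCategory.hom_ext _ _ fun x => ?_)
    refine (freeHom_add P _ a b U x).trans (Eq.trans ?_ (modHom_add R I P _ _ U x).symm)
    rw [Equiv.apply_symm_apply, Equiv.apply_symm_apply])

lemma swapHom_natK {P P' : Cᵒᵖ ⥤ Type u} (t : P ⟶ P')
    (φ : (presheafToSheaf J AddCommGrpCat.{u}).obj (P' ⋙ AddCommGrpCat.free.{u}) ⟶
      (SheafOfModules.toSheaf R).obj I) :
    swapHom R I P ((presheafToSheaf J AddCommGrpCat.{u}).map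
        (Functor.whiskerRight t AddCommGrpCat.free.{u}) ≫ φ) =
      (freeM R).map t ≫ swapHom R I P' φ := by
  apply (modHom R I P).injective
  rw [modHom_natK]
  exact (Equiv.apply_symm_apply (modHom R I P) _).trans ((freeHom_natK t φ).trans
    (congrArg (fun z => t ≫ z) (Equiv.apply_symm_apply (modHom R I P') _).symm))

/-- the swap on the terms of the nerve -/
noncomputable abbrev swapN (n : ℕ) :
    ((cP f).X n ⟶ (SheafOfModules.toSheaf R).obj I) ≃+ ((cQ R f).X n ⟶ I) :=
  swapHom R I ((Arrow.mk f).cechNerve.obj (op ⦋n⦌)).obj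

lemma swapN_d (n : ℕ) (x : (cP f).X n ⟶ (SheafOfModules.toSheaf R).obj I) :
    swapN R f I (n + 1) ((cP f).d (n + 1) n ≫ x) = (cQ R f).d (n + 1) n ≫ swapN R f I n x := by
  erw [AlternatingFaceMapComplex.obj_d_eq, AlternatingFaceMapComplex.obj_d_eq]
  simp only [Preadditive.sum_comp, Preadditive.zsmul_comp]
  refine (map_sum (swapN R f I (n + 1)) _ _).trans (Finset.sum_congr rfl fun k _ => ?_)
  refine (map_zsmul (swapN R f I (n + 1)) _ _).trans (congrArg _ ?_)
  exact swapHom_natK R I ((Arrow.mk f).cechNerve.δ k).hom x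

theorem cex_injective_module [Injective I] (n : ℕ) :
    CEx f ((SheafOfModules.toSheaf R).obj I) n := by
  intro x hx
  have hx' : (cQ R f).d (n + 2) (n + 1) ≫ swapN R f I (n + 1) x = 0 := by
    rw [← swapN_d, hx, map_zero]
  refine ⟨(swapN R f I n).symm ((cQ_exact R f n).descToInjective (swapN R f I (n + 1) x) hx'),
    (swapN R f I (n + 1)).injective ?_⟩
  rw [swapN_d, AddEquiv.apply_symm_apply]
  exact (cQ_exact R f n).comp_descToInjective _ hx'

theorem isTotallyAcyclic_injective_module [Injective I] :
    CohCx.IsTotallyAcyclic ((SheafOfModules.toSheaf R).obj I) :=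
  totallyAcyclic_of_vanish fun _ _ t _ n => cex_injective_module R t I n

end Groth.Agent.W7TotAcyc
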