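import Groth.Prelude.Def_CohCx
import Groth.Agent.SiteCoh.NerveExact
import Groth.Agent.SiteCoh.TotAcyclicPush

/-!
Totally acyclic abelian sheaves are detected by Čech complexes of epimorphisms of sheaves of sets.
-/

set_option autoImplicit false
set_option backward.isDefEq.respectTransparency false

universe u

open CategoryTheory Category Limits Opposite Abelian AlgebraicTopology Simplicial

namespace Groth.Agent.W7TotAcyc

open Groth.Agent.SiteCoh

variable {C : Type u} [SmallCategory C] {J : GrothendieckTopology C}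
  {K' K : Sheaf J (Type u)} (f : K' ⟶ K)

/-- the free nerve -/
noncomputable abbrev freeNerve : SimplicialObject.Augmented (Sheaf J AddCommGrpCat.{u}) :=
  ((SimplicialObject.Augmented.whiskering _ _).obj (Sheaf.composeAndSheafify J AddCommGrpCat.free.{u})).obj
    (Arrow.mk f).augmentedCechNerve

/-- the free chain complex of the nerve -/
noncomputable abbrev cP : ChainComplex (Sheaf J AddCommGrpCat.{u}) ℕ :=
  AlternatingFaceMapComplex.obj (SimplicialObject.Augmented.drop.obj (freeNerve f))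

/-- the augmentation in degree zero -/
noncomputable abbrev eps0 : (cP f).X 0 ⟶ (FR J).obj K :=
  (FR J).map ((Arrow.mk f).augmentedCechNerve.hom.app (op ⦋0⦌))

lemma cx_d (F : Sheaf J AddCommGrpCat.{u}) (n : ℕ) (x : (cP f).X n ⟶ F) :
    (CohCx.cechNerveCx F f).d n (n + 1) x = (cP f).d (n + 1) n ≫ x := by
  erw [coface_d, AlternatingFaceMapComplex.obj_d_eq]
  simp only [AlternatingCofaceMapComplex.objD, Preadditive.sum_comp, Preadditive.zsmul_comp]
  let ev : ((CohCx.cechNerveCx F f).X n ⟶ (CohCx.cechNerveCx F f).X (n + 1)) →+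
      ((cP f).X (n + 1) ⟶ F) := AddMonoidHom.mk' (fun g => g x) (fun _ _ => rfl)
  refine (map_sum ev _ _).trans (Finset.sum_congr rfl fun k _ => ?_)
  exact (map_zsmul ev _ _).trans rfl

lemma d_eps : (cP f).d 1 0 ≫ eps0 f = 0 := by
  have h := ((AlternatingFaceMapComplex.ε (C := Sheaf J AddCommGrpCat.{u})).app (freeNerve f)).comm 1 0
  erw [HomologicalComplex.single_obj_d, comp_zero] at h
  have e : eps0 f = ((AlternatingFaceMapComplex.ε (C := Sheaf J AddCommGrpCat.{u})).app (freeNerve f)).f 0 := rfl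
  rw [e]
  exact h.symm

lemma quasiIso_aug [Epi f] :
    QuasiIso ((cP f).toSingle₀Equiv _ |>.symm ⟨eps0 f, d_eps f⟩) := quasiIso_freeNerve f

lemma exact_succ [Epi f] (n : ℕ) : ((cP f).sc' (n + 2) (n + 1) n).Exact := by
  have h := quasiIso_aug f
  have h' : (cP f).ExactAt (n + 1) := by
    have := (h.quasiIsoAt (n + 1))
    rwa [quasiIsoAt_iff_exactAt' (hL := ChainComplex.exactAt_succ_single_obj _ _)] at this
  exact ((cP f).exactAt_iff' (n + 2) (n + 1) n (by simp) (by simp)).1 h'

lemma exact_zero [Epi f] :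
    (ShortComplex.mk _ _ (d_eps f)).Exact ∧ Epi (eps0 f) := by
  have h := (quasiIso_aug f).quasiIsoAt 0
  rw [ChainComplex.quasiIsoAt₀_iff, ShortComplex.quasiIso_iff_of_zeros' _ rfl rfl rfl] at h
  exact h

lemma epi_eps0 [Epi f] : Epi (eps0 f) := (exact_zero f).2

lemma factor_zero [Epi f] {G : Sheaf J AddCommGrpCat.{u}} (x : (cP f).X 0 ⟶ G)
    (hx : (cP f).d 1 0 ≫ x = 0) : ∃ y : (FR J).obj K ⟶ G, eps0 f ≫ y = x :=
  haveI : Epi (ShortComplex.mk _ _ (d_eps f)).g := epi_eps0 f
  ⟨(exact_zero f).1.desc x hx, (exact_zero f).1.g_desc x hx⟩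

/-- exactness of the Čech complex in degree `n + 1` -/
def CEx (F : Sheaf J AddCommGrpCat.{u}) (n : ℕ) : Prop :=
  ∀ x : (cP f).X (n + 1) ⟶ F, (cP f).d (n + 2) (n + 1) ≫ x = 0 →
    ∃ y : (cP f).X n ⟶ F, (cP f).d (n + 1) n ≫ y = x

lemma isZero_iff (F : Sheaf J AddCommGrpCat.{u}) (n : ℕ) :
    IsZero ((CohCx.cechNerveCx F f).homology (n + 1)) ↔ CEx f F n := by
  rw [← HomologicalComplex.exactAt_iff_isZero_homology,
    HomologicalComplex.exactAt_iff' _ n (n + 1) (n + 2) (by simp) (by simp),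
    ShortComplex.ab_exact_iff]
  exact ⟨fun h x hx => (h x ((cx_d f F (n + 1) x).trans hx)).imp fun y hy => (cx_d f F n y).symm.trans hy,
    fun h x hx => (h x ((cx_d f F (n + 1) x).symm.trans hx)).imp fun y hy => (cx_d f F n y).trans hy⟩

lemma cex_injective [Epi f] (I : Sheaf J AddCommGrpCat.{u}) [Injective I] (n : ℕ) : CEx f I n :=
  fun x hx => ⟨(exact_succ f n).descToInjective x hx, (exact_succ f n).comp_descToInjective x hx⟩

lemma dd (n : ℕ) {G : Sheaf J AddCommGrpCat.{u}} (y : (cP f).X n ⟶ G) :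
    (cP f).d (n + 2) (n + 1) ≫ (cP f).d (n + 1) n ≫ y = 0 := by
  rw [← Category.assoc, HomologicalComplex.d_comp_d, zero_comp]

lemma totAcyc_quotient {F : Sheaf J AddCommGrpCat.{u}} (hF : CohCx.IsTotallyAcyclic F) :
    CohCx.IsTotallyAcyclic (embedSeq F).X₃ := fun L q => by
  have : Subsingleton (Ext ((FR J).obj L) (embedSeq F).X₁ (q + 1 + 1)) := hF L (q + 1)
  exact subsingleton_ext_quotient (embedSeq_shortExact F) ((FR J).obj L) (q + 1)

theorem cex_of_totallyAcyclic [Epi f] (n : ℕ) :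
    ∀ F : Sheaf J AddCommGrpCat.{u}, CohCx.IsTotallyAcyclic F → CEx f F n := by
  induction n with
  | zero =>
    intro F hF x hx
    have hS := embedSeq_shortExact F
    obtain ⟨y, hy⟩ := cex_injective f (embedSeq F).X₂ 0 (x ≫ (embedSeq F).f)
      (by rw [← Category.assoc, hx, zero_comp])
    obtain ⟨z, hz⟩ := factor_zero f (y ≫ (embedSeq F).g) (by
      rw [← Category.assoc, hy, Category.assoc, (embedSeq F).zero, comp_zero])
    have : Subsingleton (Ext ((FR J).obj K) (embedSeq F).X₁ 1) := hF K 0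
    obtain ⟨z', hz'⟩ := exists_lift_of_subsingleton_ext_one hS ((FR J).obj K) z
    haveI := hS.mono_f
    obtain ⟨y', hy'⟩ := KernelFork.IsLimit.lift' hS.fIsKernel (y - eps0 f ≫ z')
      (by rw [Preadditive.sub_comp, Category.assoc, hz', hz, sub_self])
    refine ⟨y', (cancel_mono (embedSeq F).f).mp ?_⟩
    have hy'' : y' ≫ (embedSeq F).f = y - eps0 f ≫ z' := hy'
    rw [Category.assoc, hy'', Preadditive.comp_sub, hy, ← Category.assoc, d_eps, zero_comp, sub_zero]
  | succ n ih =>
    intro F hF x hx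
    have hS := embedSeq_shortExact F
    obtain ⟨y, hy⟩ := cex_injective f (embedSeq F).X₂ (n + 1) (x ≫ (embedSeq F).f)
      (by rw [← Category.assoc, hx, zero_comp])
    obtain ⟨z, hz⟩ := ih _ (totAcyc_quotient hF) (y ≫ (embedSeq F).g) (by
      rw [← Category.assoc, hy, Category.assoc, (embedSeq F).zero, comp_zero])
    have : Subsingleton (Ext ((cP f).X n) (embedSeq F).X₁ 1) :=
      hF ((Arrow.mk f).cechNerve.obj (op ⦋n⦌)) 0
    obtain ⟨z', hz'⟩ := exists_lift_of_subsingleton_ext_one hS ((cP f).X n) z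
    haveI := hS.mono_f
    obtain ⟨y', hy'⟩ := KernelFork.IsLimit.lift' hS.fIsKernel (y - (cP f).d (n + 1) n ≫ z')
      (by rw [Preadditive.sub_comp, Category.assoc, hz', hz, sub_self])
    refine ⟨y', (cancel_mono (embedSeq F).f).mp ?_⟩
    have hy'' : y' ≫ (embedSeq F).f = y - (cP f).d (n + 1) n ≫ z' := hy'
    rw [Category.assoc, hy'', Preadditive.comp_sub, hy, dd, sub_zero]

/-- all Čech complexes of epimorphisms are exact in positive degrees -/
def CechVanish (F : Sheaf J AddCommGrpCat.{u}) : Prop :=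
  ∀ (L' L : Sheaf J (Type u)) (t : L' ⟶ L), Epi t → ∀ n, CEx t F n

lemma epi_fst {A B : Sheaf J (Type u)} (γ : K ⟶ B) (g : A ⟶ B) [Sheaf.IsLocallySurjective g] :
    Epi (pullback.fst γ g) := by
  have : Sheaf.IsLocallySurjective (pullback.fst γ g) := ⟨fun {U} x => by
    refine J.superset_covering ?_ (Presheaf.imageSieve_mem J g.hom (γ.hom.app (op U) x))
    rintro V a ⟨y, hy⟩
    let tx := (repEquiv V K).symm (K.obj.map a.op x)
    let ty := (repEquiv V A).symm y
    have e : tx ≫ γ = ty ≫ g := by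
      apply (repEquiv V B).injective
      rw [repEquiv_comp, repEquiv_comp, Equiv.apply_symm_apply, Equiv.apply_symm_apply]
      exact (NatTrans.naturality_apply γ.hom a.op x).trans hy.symm
    refine ⟨repEquiv V _ (pullback.lift tx ty e), ?_⟩
    rw [← repEquiv_comp, pullback.lift_fst, Equiv.apply_symm_apply]⟩
  infer_instance

lemma ext_one_of_vanish {F : Sheaf J AddCommGrpCat.{u}} (h : CechVanish F) (L : Sheaf J (Type u)) :
    Subsingleton (Ext ((FR J).obj L) F 1) := by
  have hS := embedSeq_shortExact F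
  refine subsingleton_ext_one_of_lift hS ((FR J).obj L) fun φ => ?_
  haveI := hS.mono_f
  haveI := hS.epi_g
  haveI : Sheaf.IsLocallySurjective (embedSeq F).g := (Sheaf.isLocallySurjective_iff_epi' (A := AddCommGrpCat.{u}) (embedSeq F).g).mpr inferInstance
  haveI : Sheaf.IsLocallySurjective ((uSet J).map (embedSeq F).g) :=
    (Presheaf.isLocallySurjective_iff_whisker_forget J (embedSeq F).g.hom).mp inferInstance
  let t := pullback.fst (frHom L _ φ) ((uSet J).map (embedSeq F).g)
  haveI : Epi t := epi_fst _ _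
  let p := WidePullback.π (B := (Arrow.mk t).right) (objs := fun _ : Fin 1 => (Arrow.mk t).left)
    (fun _ => (Arrow.mk t).hom) 0
  let a : (cP t).X 0 ⟶ (embedSeq F).X₂ := (frHom ((Arrow.mk t).cechNerve.obj (op ⦋0⦌)) _).symm
    (p ≫ pullback.snd (frHom L _ φ) ((uSet J).map (embedSeq F).g))
  have hbase : ((Arrow.mk t).augmentedCechNerve.hom.app (op ⦋0⦌)) = p ≫ t :=
    (WidePullback.π_arrow _ _).symm
  have ha : a ≫ (embedSeq F).g = eps0 t ≫ φ := by
    apply (frHom ((Arrow.mk t).cechNerve.obj (op ⦋0⦌)) _).injective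
    refine (frHom_comp _ _).trans (Eq.trans ?_ (frHom_natK _ _).symm)
    rw [Equiv.apply_symm_apply, hbase, Category.assoc, ← pullback.condition]
    exact (Category.assoc _ _ _).symm
  obtain ⟨w, hw⟩ := KernelFork.IsLimit.lift' hS.fIsKernel ((cP t).d 1 0 ≫ a)
    (by rw [Category.assoc, ha, ← Category.assoc, d_eps, zero_comp])
  have hw' : w ≫ (embedSeq F).f = (cP t).d 1 0 ≫ a := hw
  obtain ⟨v, hv⟩ := h _ _ t inferInstance 0 w ((cancel_mono (embedSeq F).f).mp (by
    rw [Category.assoc, hw', dd, zero_comp]))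
  obtain ⟨ψ, hψ⟩ := factor_zero t (a - v ≫ (embedSeq F).f)
    (by rw [Preadditive.comp_sub, ← hw', ← hv, Category.assoc, sub_self])
  haveI := epi_eps0 t
  refine ⟨ψ, (cancel_epi (eps0 t)).mp ?_⟩
  rw [← Category.assoc, hψ, Preadditive.sub_comp, Category.assoc, (embedSeq F).zero, comp_zero,
    sub_zero, ha]

lemma vanish_quotient {F : Sheaf J AddCommGrpCat.{u}} (h : CechVanish F) :
    CechVanish (embedSeq F).X₃ := by
  intro L' L t ht n x hx
  have hS := embedSeq_shortExact F
  haveI := hS.mono_f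
  have : Subsingleton (Ext ((cP t).X (n + 1)) (embedSeq F).X₁ 1) :=
    ext_one_of_vanish h ((Arrow.mk t).cechNerve.obj (op ⦋n + 1⦌))
  obtain ⟨x', hx'⟩ := exists_lift_of_subsingleton_ext_one hS ((cP t).X (n + 1)) x
  obtain ⟨w, hw⟩ := KernelFork.IsLimit.lift' hS.fIsKernel ((cP t).d (n + 2) (n + 1) ≫ x')
    (by rw [Category.assoc, hx', hx])
  have hw' : w ≫ (embedSeq F).f = (cP t).d (n + 2) (n + 1) ≫ x' := hw
  obtain ⟨v, hv⟩ := h L' L t ht (n + 1) w ((cancel_mono (embedSeq F).f).mp (by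
    rw [Category.assoc, hw', dd, zero_comp]))
  obtain ⟨y, hy⟩ := cex_injective t (embedSeq F).X₂ n (x' - v ≫ (embedSeq F).f)
    (by rw [Preadditive.comp_sub, ← hw', ← hv, Category.assoc, sub_self])
  exact ⟨y ≫ (embedSeq F).g, by
    rw [← Category.assoc, hy, Preadditive.sub_comp, Category.assoc, (embedSeq F).zero, comp_zero,
      sub_zero, hx']⟩

theorem totallyAcyclic_of_vanish {F : Sheaf J AddCommGrpCat.{u}} (h : CechVanish F) :
    CohCx.IsTotallyAcyclic F := by
  intro L p
  induction p generalizing F with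
  | zero => exact ext_one_of_vanish h L
  | succ p ih =>
    have : Subsingleton (Ext ((FR J).obj L) (embedSeq F).X₃ (p + 1)) := ih (vanish_quotient h)
    exact subsingleton_ext_succ (embedSeq_shortExact F) ((FR J).obj L) (p + 1)

end Groth.Agent.W7TotAcyc
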